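import Mathlib
import Groth.Prelude
import Groth.Agent.Lib.Helper8.ExtScalarsBridge

/-!
# Chain-level base change of the Koszul complex (arbitrary ring map)
-/

set_option autoImplicit false
universe u
open CategoryTheory Category Limits TensorProduct CochainComplex

namespace Groth.Agent.H8.KosBCh

variable {A B : Type u} [CommRing A] [CommRing B] [Algebra A B]

variable (A B) in
/-- extension of scalars along `A → B` -/
noncomputable abbrev ES : ModuleCat.{u} A ⥤ ModuleCat.{u} B :=
  ModuleCat.extendScalars.{u, u, u} (algebraMap A B)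

variable (A B) in
/-- extension of scalars on cochain complexes -/
noncomputable abbrev ESC : CochainComplex (ModuleCat.{u} A) ℤ ⥤ CochainComplex (ModuleCat.{u} B) ℤ :=
  (ES A B).mapHomologicalComplex (ComplexShape.up ℤ)

lemma ES_map_smul_id (a : A) (M : ModuleCat.{u} A) :
    (ES A B).map (a • 𝟙 M) = algebraMap A B a • 𝟙 ((ES A B).obj M) := by
  refine ModuleCat.hom_ext (LinearMap.ext fun t => ?_)
  apply (Groth.Agent.H8.ExtBridge.extEquiv (B := B) M).injective
  rw [Groth.Agent.H8.ExtBridge.extEquiv_map]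
  change _ = Groth.Agent.H8.ExtBridge.extEquiv (B := B) M (algebraMap A B a • t)
  rw [map_smul]
  generalize Groth.Agent.H8.ExtBridge.extEquiv (B := B) M t = z
  induction z using TensorProduct.induction_on with
  | zero => rw [map_zero, smul_zero]
  | tmul s m =>
    change s ⊗ₜ[A] (a • m) = algebraMap A B a • (s ⊗ₜ[A] m)
    rw [TensorProduct.smul_tmul', ← TensorProduct.smul_tmul, Algebra.smul_def, mul_comm,
      smul_eq_mul, mul_comm]
  | add x y hx hy => rw [map_add, smul_add, hx, hy]

lemma ESC_map_smul_id (a : A) (K : CochainComplex (ModuleCat.{u} A) ℤ) :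
    (ESC A B).map (a • 𝟙 K) = algebraMap A B a • 𝟙 ((ESC A B).obj K) := by
  ext n : 1
  exact ES_map_smul_id a (K.X n)

/-- iso of mapping cones from an iso of arrows -/
noncomputable def mappingConeMapIso {K₁ L₁ K₂ L₂ : CochainComplex (ModuleCat.{u} B) ℤ}
    (φ₁ : K₁ ⟶ L₁) (φ₂ : K₂ ⟶ L₂) (a : K₁ ≅ K₂) (b : L₁ ≅ L₂)
    (comm : φ₁ ≫ b.hom = a.hom ≫ φ₂) : mappingCone φ₁ ≅ mappingCone φ₂ where
  hom := mappingCone.map φ₁ φ₂ a.hom b.hom comm
  inv := mappingCone.map φ₂ φ₁ a.inv b.inv (by
    rw [← cancel_mono b.hom, assoc, b.inv_hom_id, comp_id, assoc, comm, a.inv_hom_id_assoc])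
  hom_inv_id := by
    rw [← mappingCone.map_comp]
    simp only [Iso.hom_inv_id]
    exact mappingCone.map_id φ₁
  inv_hom_id := by
    rw [← mappingCone.map_comp]
    simp only [Iso.inv_hom_id]
    exact mappingCone.map_id φ₂

/-- `B ⊗_A A ≅ B` -/
noncomputable def ESUnitIso : (ES A B).obj (ModuleCat.of A A) ≅ ModuleCat.of B B :=
  ((Groth.Agent.H8.ExtBridge.extEquiv (A := A) (B := B) (ModuleCat.of A A)).trans
    (TensorProduct.AlgebraTensorModule.rid A B B)).toModuleIso

/-- **chain-level base change of the Koszul complex** -/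
noncomputable def kosBCIso : ∀ l : List A,
    (ESC A B).obj (Koszul.koszul A l) ≅ Koszul.koszul B (l.map (algebraMap A B))
  | [] =>
    (HomologicalComplex.singleMapHomologicalComplex (ES A B) (ComplexShape.up ℤ) 0).app
        (ModuleCat.of A A) ≪≫
      (HomologicalComplex.single (ModuleCat.{u} B) (ComplexShape.up ℤ) 0).mapIso ESUnitIso
  | f :: l =>
    mappingCone.mapHomologicalComplexIso (f • 𝟙 (Koszul.koszul A l)) (ES A B) ≪≫
      mappingConeMapIso _ (algebraMap A B f • 𝟙 (Koszul.koszul B (l.map (algebraMap A B))))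
        (kosBCIso l) (kosBCIso l) (by
          rw [ESC_map_smul_id, Linear.smul_comp, Linear.comp_smul, id_comp, comp_id])

end Groth.Agent.H8.KosBCh
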