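import Mathlib
import Groth.Agent.H4.FlatAcyc1

/-!
# Linear algebra for base change of flat resolutions of flat modules
-/

set_option autoImplicit false
universe u
open TensorProduct Function

namespace Groth.Agent.H8.KosBCh

section resolution

variable {R : Type u} [CommRing R] (M : ℕ → Type u) [∀ n, AddCommGroup (M n)]
  [∀ n, Module R (M n)] [∀ n, Module.Flat R (M n)]
  (d : ∀ n, M (n + 1) →ₗ[R] M n) (hex : ∀ n, Function.Exact (d (n + 1)) (d n))
  {Q : Type u} [AddCommGroup Q] [Module R Q] [Module.Flat R Q] (ε : M 0 →ₗ[R] Q)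
  (hε : Function.Surjective ε) (hker : Function.Exact (d 0) ε)

include hε in
omit [∀ n, Module.Flat R (M n)] in
theorem flat_range_of_surjective : Module.Flat R (LinearMap.range ε) :=
  Module.Flat.of_linearEquiv (LinearEquiv.ofTop _ (LinearMap.range_eq_top.mpr hε))

include hex hε hker in
theorem flat_range_d : ∀ n, Module.Flat R (LinearMap.range (d n))
  | 0 => by
    have := flat_range_of_surjective M ε hε
    exact Groth.Agent.H4.FlatAcyc.flat_range (d 0) ε hker
  | n + 1 => by
    have := flat_range_d n
    exact Groth.Agent.H4.FlatAcyc.flat_range (d (n + 1)) (d n) (hex n)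

include hex hε hker in
/-- A flat resolution of a flat module stays exact after tensoring with any module. -/
theorem lTensor_exact (N : Type u) [AddCommGroup N] [Module R N] :
    ∀ n, Function.Exact ((d (n + 1)).lTensor N) ((d n).lTensor N)
  | 0 => by
    have := flat_range_of_surjective M ε hε
    exact Groth.Agent.H4.FlatAcyc.lTensor_exact_of_flat_range (d 1) (d 0) ε (hex 0) hker N
  | n + 1 => by
    have := flat_range_d M d hex ε hε hker n
    exact Groth.Agent.H4.FlatAcyc.lTensor_exact_of_flat_range (d (n + 2)) (d (n + 1)) (d n)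
      (hex (n + 1)) (hex n) N

end resolution

section pushout

variable (R R' P P' : Type u) [CommRing R] [CommRing R'] [CommRing P] [CommRing P']
  [Algebra R P] [Algebra R R'] [Algebra P P'] [Algebra R' P'] [Algebra R P']
  [IsScalarTower R P P'] [IsScalarTower R R' P'] [Algebra.IsPushout R R' P P']
  {M₁ M₂ M₃ : Type u} [AddCommGroup M₁] [AddCommGroup M₂] [AddCommGroup M₃]
  [Module P M₁] [Module P M₂] [Module P M₃] [Module R M₁] [Module R M₂] [Module R M₃]
  [IsScalarTower R P M₁] [IsScalarTower R P M₂] [IsScalarTower R P M₃]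

theorem cancelBaseChange_symm_lTensor (f : M₁ →ₗ[P] M₂) (y : R' ⊗[R] M₁) :
    (Algebra.IsPushout.cancelBaseChange R R' P P' M₂).symm
      ((f.restrictScalars R).lTensor R' y) =
    f.lTensor P' ((Algebra.IsPushout.cancelBaseChange R R' P P' M₁).symm y) := by
  induction y using TensorProduct.induction_on with
  | zero => simp
  | add x y hx hy => simp only [map_add, hx, hy]
  | tmul s m => simp

/-- exactness of `P' ⊗_P -` from exactness of `R' ⊗_R -` when `P' = P ⊗_R R'`. -/
theorem exact_lTensor_of_isPushout (f : M₁ →ₗ[P] M₂) (g : M₂ →ₗ[P] M₃)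
    (h : Function.Exact ((f.restrictScalars R).lTensor R') ((g.restrictScalars R).lTensor R')) :
    Function.Exact (f.lTensor P') (g.lTensor P') := by
  set e₁ := Algebra.IsPushout.cancelBaseChange R R' P P' M₁
  set e₂ := Algebra.IsPushout.cancelBaseChange R R' P P' M₂
  set e₃ := Algebra.IsPushout.cancelBaseChange R R' P P' M₃
  intro x
  have hx : x = e₂.symm (e₂ x) := (e₂.symm_apply_apply x).symm
  constructor
  · intro hgx
    have h1 : (g.restrictScalars R).lTensor R' (e₂ x) = 0 := by
      apply e₃.symm.injective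
      rw [cancelBaseChange_symm_lTensor, ← hx, hgx, map_zero]
    obtain ⟨y, hy⟩ := (h (e₂ x)).mp h1
    refine ⟨e₁.symm y, ?_⟩
    rw [← cancelBaseChange_symm_lTensor, hy, ← hx]
  · rintro ⟨y, rfl⟩
    have hy : y = e₁.symm (e₁ y) := (e₁.symm_apply_apply y).symm
    rw [hy, ← cancelBaseChange_symm_lTensor, ← cancelBaseChange_symm_lTensor]
    have h0 := (h ((f.restrictScalars R).lTensor R' (e₁ y))).mpr ⟨_, rfl⟩
    rw [h0, map_zero]

end pushout

end Groth.Agent.H8.KosBCh
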