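import Mathlib
import Groth.Prelude
import Groth.Agent.Lib.Helper8.KosBCh.Lin
import Groth.Agent.Lib.Helper8.KosBCh.Chain
import Groth.Agent.H4.FlatAcyc2
import Groth.Agent.H4.KosLow
import Groth.Agent.Lib.Helper2.Kos7

/-!
# (BC): Koszul-regular sequences with flat quotient are stable under arbitrary base change
-/

set_option autoImplicit false
universe u
open CategoryTheory Category Limits TensorProduct CochainComplex

namespace Groth.Agent.H8.KosBCh

section flatTerms

variable {P : Type u} [CommRing P]

theorem projective_koszul_X : ∀ (l : List P) (n : ℤ),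
    Module.Projective P ((Koszul.koszul P l).X n)
  | [], n => by
    by_cases hn : n = 0
    · subst hn
      exact Module.Projective.of_equiv
        (HomologicalComplex.singleObjXSelf (ComplexShape.up ℤ) 0
          (ModuleCat.of P P)).toLinearEquiv.symm
    · have := ModuleCat.subsingleton_of_isZero
        (HomologicalComplex.isZero_single_obj_X (ComplexShape.up ℤ) 0 (ModuleCat.of P P) n hn)
      change Module.Projective P (((HomologicalComplex.single (ModuleCat.{u} P)
        (ComplexShape.up ℤ) 0).obj (ModuleCat.of P P)).X n)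
      infer_instance
  | f :: l, n => by
    have e : (mappingCone (f • 𝟙 (Koszul.koszul P l))).X n ≅ _ :=
      HomologicalComplex.homotopyCofiber.XIsoBiprod (f • 𝟙 (Koszul.koszul P l)) n (n + 1) rfl
    have h1 := projective_koszul_X l (n + 1)
    have h2 := projective_koszul_X l n
    change Module.Projective P ((mappingCone (f • 𝟙 (Koszul.koszul P l))).X n)
    have h3 : Module.Projective P
        (((Koszul.koszul P l).X (n + 1) : ModuleCat.{u} P) × ((Koszul.koszul P l).X n : ModuleCat.{u} P)) :=
      inferInstance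
    exact Module.Projective.of_equiv
      ((e ≪≫ ModuleCat.biprodIsoProd _ _).toLinearEquiv.symm)

end flatTerms

theorem koszul_eq_koszulCx {A : Type u} [CommRing A] (l : List A) :
    Koszul.koszul A l = CohIII.koszulCx (ModuleCat.of A A) l := by
  induction l with
  | nil => rfl
  | cons f l ih =>
    change CochainComplex.mappingCone (f • 𝟙 (Koszul.koszul A l)) =
      CochainComplex.mappingCone (f • 𝟙 (CohIII.koszulCx (ModuleCat.of A A) l))
    rw [ih]

section ESexact

variable {A B : Type u} [CommRing A] [CommRing B] [Algebra A B]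

/-- exactness of `B ⊗_A -` on linear maps gives exactness of `extendScalars` on morphisms. -/
theorem exact_ES_map {M₁ M₂ M₃ : ModuleCat.{u} A} (f : M₁ ⟶ M₂) (g : M₂ ⟶ M₃)
    (h : Function.Exact (f.hom.lTensor B) (g.hom.lTensor B)) :
    Function.Exact ((ES A B).map f).hom ((ES A B).map g).hom := by
  intro x
  have h2 := Groth.Agent.H8.ExtBridge.extEquiv_map (B := B) g x
  constructor
  · intro hx
    have h1 : g.hom.lTensor B (Groth.Agent.H8.ExtBridge.extEquiv (B := B) M₂ x) = 0 := by
      have : g.hom.baseChange B (Groth.Agent.H8.ExtBridge.extEquiv (B := B) M₂ x) = 0 := by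
        rw [← h2, hx, map_zero]
      exact this
    obtain ⟨y, hy⟩ := (h _).mp h1
    refine ⟨(Groth.Agent.H8.ExtBridge.extEquiv (B := B) M₁).symm y, ?_⟩
    apply (Groth.Agent.H8.ExtBridge.extEquiv (B := B) M₂).injective
    rw [Groth.Agent.H8.ExtBridge.extEquiv_map, LinearEquiv.apply_symm_apply]
    exact hy
  · rintro ⟨y, rfl⟩
    apply (Groth.Agent.H8.ExtBridge.extEquiv (B := B) M₃).injective
    rw [h2, Groth.Agent.H8.ExtBridge.extEquiv_map, map_zero]
    exact (h _).mpr ⟨_, rfl⟩

end ESexact

section main

variable (R R' P P' : Type u) [CommRing R] [CommRing R'] [CommRing P] [CommRing P']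
  [Algebra R P] [Algebra R R'] [Algebra P P'] [Algebra R' P'] [Algebra R P']
  [IsScalarTower R P P'] [IsScalarTower R R' P'] [Algebra.IsPushout R R' P P']

/-- the `R`-module structure on a `P`-module -/
noncomputable local instance modR (M : ModuleCat.{u} P) : Module R M :=
  Module.compHom M (algebraMap R P)

local instance towerR (M : ModuleCat.{u} P) : IsScalarTower R P M := by
  refine ⟨fun r p m => ?_⟩
  change (r • p) • m = algebraMap R P r • (p • m)
  rw [Algebra.smul_def, mul_smul]

include R' in
/-- **(BC)**: if `P` is flat over `R`, `l` is Koszul-regular in `P` and `P/(l)` is flat over `R`,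
then the image of `l` in `P' = P ⊗_R R'` is Koszul-regular, for every `R`-algebra `R'`. -/
theorem isKoszulRegularSeq_map_of_isPushout [Module.Flat R P] (l : List P)
    (hl : LCI.IsKoszulRegularSeq P l) (hfl : Module.Flat R (P ⧸ Ideal.ofList l)) :
    LCI.IsKoszulRegularSeq P' (l.map (algebraMap P P')) := by
  intro i hi
  set K := Koszul.koszul P l with hK
  refine IsZero.of_iso ?_
    ((HomologicalComplex.homologyFunctor _ _ i).mapIso (kosBCIso (B := P') l)).symm
  change IsZero (((ESC P P').obj K).homology i)
  rw [← HomologicalComplex.exactAt_iff_isZero_homology]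
  rcases lt_or_gt_of_ne hi with hneg | hpos
  · -- negative degrees
    obtain ⟨n, rfl⟩ : ∃ n : ℕ, i = -((n + 1 : ℕ) : ℤ) := ⟨(-i - 1).toNat, by omega⟩
    -- the data for the linear algebra lemma
    let M : ℕ → Type u := fun n => K.X (-(n : ℤ))
    let d : ∀ n, M (n + 1) →ₗ[R] M n := fun n =>
      (K.d (-((n + 1 : ℕ) : ℤ)) (-(n : ℤ))).hom.restrictScalars R
    have hex : ∀ n, Function.Exact (d (n + 1)) (d n) := by
      intro n
      have h1 : K.ExactAt (-((n + 1 : ℕ) : ℤ)) := by
        rw [HomologicalComplex.exactAt_iff_isZero_homology]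
        exact hl _ (by omega)
      exact Groth.Agent.H4.FlatAcyc.exact_d_of_exactAt K (-((n + 1 + 1 : ℕ) : ℤ))
        (-((n + 1 : ℕ) : ℤ)) (-(n : ℤ)) (by push_cast; ring) (by push_cast; ring) h1
    have : ∀ n, Module.Flat R (M n) := fun n => by
      have : Module.Projective P (K.X (-(n : ℤ))) := projective_koszul_X l _
      exact Module.Flat.trans R P (K.X (-(n : ℤ)))
    -- the augmentation
    obtain ⟨ε₀, hε₀s, hε₀k⟩ : ∃ ε : (K.X 0) →ₗ[P] (P ⧸ (Ideal.ofList l • (⊤ : Submodule P P))),
        Function.Surjective ε ∧ LinearMap.ker ε = LinearMap.range (K.d (-1) 0).hom := by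
      have h := Groth.Agent.H2.Kos.exists_aug P l
      rw [hK, koszul_eq_koszulCx]
      exact h
    have : Module.Flat R (P ⧸ (Ideal.ofList l • (⊤ : Submodule P P))) := by
      have heq : Ideal.ofList l • (⊤ : Submodule P P) = Ideal.ofList l := by
        rw [smul_eq_mul, Ideal.mul_top]
      exact Module.Flat.of_linearEquiv ((Submodule.quotEquivOfEq _ _ heq).restrictScalars R)
    let ε : M 0 →ₗ[R] (P ⧸ (Ideal.ofList l • (⊤ : Submodule P P))) := ε₀.restrictScalars R
    have hker : Function.Exact (d 0) ε := by
      intro x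
      change ε₀ x = 0 ↔ x ∈ Set.range (K.d (-1) 0).hom
      rw [← LinearMap.mem_ker, hε₀k]
      rfl
    have hmain := lTensor_exact M d hex ε hε₀s hker R' n
    have h2 := exact_lTensor_of_isPushout R R' P P'
      (K.d (-((n + 1 + 1 : ℕ) : ℤ)) (-((n + 1 : ℕ) : ℤ))).hom
      (K.d (-((n + 1 : ℕ) : ℤ)) (-(n : ℤ))).hom hmain
    exact Groth.Agent.H4.FlatAcyc.exactAt_of_exact_d ((ESC P P').obj K) (-((n + 1 + 1 : ℕ) : ℤ))
      (-((n + 1 : ℕ) : ℤ)) (-(n : ℤ)) (by push_cast; ring) (by push_cast; ring)
      (exact_ES_map _ _ h2)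
  · -- positive degrees: the term vanishes
    apply HomologicalComplex.ExactAt.of_isZero
    have h1 : IsZero (K.X i) := (Groth.Agent.H4.KosLow.lowData_koszul l).1 i hpos
    exact (ES P P').map_isZero h1

end main

end Groth.Agent.H8.KosBCh
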