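import Mathlib
import Groth.Agent.Lib.Helper8.KosBCh.Lin
import Groth.Agent.Lib.Helper1.FlatNilpotent

/-!
# Lifting exactness and flatness along a square-zero thickening
-/

set_option autoImplicit false
universe u
open TensorProduct Function

namespace Groth.Agent.H8.KosBCh

section mu

variable {A : Type u} [CommRing A] (J : Ideal A)

/-- the multiplication map `J ⊗ M → M`. -/
noncomputable def mu (M : Type u) [AddCommGroup M] [Module A M] : J ⊗[A] M →ₗ[A] M :=
  (TensorProduct.lid A M).toLinearMap ∘ₗ J.subtype.rTensor M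

@[simp]
theorem mu_tmul (M : Type u) [AddCommGroup M] [Module A M] (j : J) (m : M) :
    mu J M (j ⊗ₜ m) = (j : A) • m := by
  simp [mu]

theorem mu_injective (M : Type u) [AddCommGroup M] [Module A M] [Module.Flat A M] :
    Function.Injective (mu J M) := by
  unfold mu
  rw [LinearMap.coe_comp, LinearEquiv.coe_coe]
  exact (LinearEquiv.injective _).comp
    (Module.Flat.rTensor_preserves_injective_linearMap (M := M) J.subtype Subtype.val_injective)

theorem mu_naturality {M N : Type u} [AddCommGroup M] [Module A M] [AddCommGroup N] [Module A N]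
    (f : M →ₗ[A] N) (η : J ⊗[A] M) : f (mu J M η) = mu J N (f.lTensor J η) := by
  induction η using TensorProduct.induction_on with
  | zero => simp
  | add x y hx hy => simp only [map_add, hx, hy]
  | tmul j m => simp

theorem range_mu (M : Type u) [AddCommGroup M] [Module A M] :
    LinearMap.range (mu J M) = J • (⊤ : Submodule A M) := by
  apply le_antisymm
  · rintro _ ⟨η, rfl⟩
    induction η using TensorProduct.induction_on with
    | zero => simp
    | add x y hx hy => rw [map_add]; exact Submodule.add_mem _ hx hy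
    | tmul j m => rw [mu_tmul]; exact Submodule.smul_mem_smul j.2 Submodule.mem_top
  · rw [Submodule.smul_le]
    intro j hj m _
    exact ⟨(⟨j, hj⟩ : J) ⊗ₜ m, by simp⟩

theorem one_tmul_eq_zero_iff (M : Type u) [AddCommGroup M] [Module A M] (m : M) :
    ((1 : A ⧸ J) ⊗ₜ[A] m = 0) ↔ m ∈ J • (⊤ : Submodule A M) := by
  rw [← (TensorProduct.quotTensorEquivQuotSMul M J).map_eq_zero_iff,
    TensorProduct.quotTensorEquivQuotSMul_mk_one_tmul, Submodule.Quotient.mk_eq_zero]

theorem exists_one_tmul (M : Type u) [AddCommGroup M] [Module A M] (ω : (A ⧸ J) ⊗[A] M) :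
    ∃ m : M, (1 : A ⧸ J) ⊗ₜ[A] m = ω := by
  obtain ⟨m, hm⟩ := Submodule.Quotient.mk_surjective _
    (TensorProduct.quotTensorEquivQuotSMul M J ω)
  refine ⟨m, ?_⟩
  apply (TensorProduct.quotTensorEquivQuotSMul M J).injective
  rw [TensorProduct.quotTensorEquivQuotSMul_mk_one_tmul, hm]

end mu

section sqzero

variable {A : Type u} [CommRing A] (J : Ideal A) (hJ : J * J = ⊥)
  (M : ℕ → Type u) [∀ n, AddCommGroup (M n)] [∀ n, Module A (M n)] [∀ n, Module.Flat A (M n)]
  (d : ∀ n, M (n + 1) →ₗ[A] M n) (hdd : ∀ n x, d n (d (n + 1) x) = 0)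
  {Q : Type u} [AddCommGroup Q] [Module A Q] (ε : M 0 →ₗ[A] Q)
  (hε : Function.Surjective ε) (hker : Function.Exact (d 0) ε)
  (hexbar : ∀ n, Function.Exact ((d (n + 1)).lTensor (A ⧸ J)) ((d n).lTensor (A ⧸ J)))
  [Module.Flat (A ⧸ J) ((A ⧸ J) ⊗[A] Q)]

include hJ in
theorem isTorsionBySet_self : Module.IsTorsionBySet A J (J : Set A) := by
  intro x a
  apply Subtype.ext
  change (a : A) * (x : A) = 0
  have h : (a : A) * (x : A) ∈ J * J := Ideal.mul_mem_mul a.2 x.2
  rw [hJ] at h
  exact h

include hexbar in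
omit [∀ n, Module.Flat A (M n)] in
/-- elementwise form of exactness modulo `J`. -/
theorem exists_sub_mem (n : ℕ) (z : M (n + 1)) (hz : d n z ∈ J • (⊤ : Submodule A (M n))) :
    ∃ w : M (n + 2), z - d (n + 1) w ∈ J • (⊤ : Submodule A (M (n + 1))) := by
  have h1 : (d n).lTensor (A ⧸ J) ((1 : A ⧸ J) ⊗ₜ z) = 0 := by
    rw [LinearMap.lTensor_tmul]
    exact (one_tmul_eq_zero_iff J _ _).mpr hz
  obtain ⟨ω, hω⟩ := (hexbar n _).mp h1
  obtain ⟨w, rfl⟩ := exists_one_tmul J _ ω
  refine ⟨w, ?_⟩
  rw [← one_tmul_eq_zero_iff, TensorProduct.tmul_sub, ← hω, LinearMap.lTensor_tmul, sub_self]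

include hJ hε hker hexbar in
/-- exactness of `J ⊗ M`. -/
theorem exact_lTensor_J (n : ℕ) :
    Function.Exact ((d (n + 1)).lTensor J) ((d n).lTensor J) := by
  let _ : Module (A ⧸ J) J := (isTorsionBySet_self J hJ).module
  have : IsScalarTower A (A ⧸ J) J := (isTorsionBySet_self J hJ).isScalarTower
  -- the reduced resolution
  let T : ℕ → Type u := fun n => (A ⧸ J) ⊗[A] M n
  let dT : ∀ n, T (n + 1) →ₗ[A ⧸ J] T n := fun n => (d n).baseChange (A ⧸ J)
  let εT : T 0 →ₗ[A ⧸ J] (A ⧸ J) ⊗[A] Q := ε.baseChange (A ⧸ J)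
  have hexT : ∀ n, Function.Exact (dT (n + 1)) (dT n) := fun n => hexbar n
  have hεT : Function.Surjective εT := LinearMap.lTensor_surjective (A ⧸ J) hε
  have hkerT : Function.Exact (dT 0) εT := _root_.lTensor_exact (A ⧸ J) hker hε
  have key := lTensor_exact (R := A ⧸ J) T dT hexT εT hεT hkerT J n
  -- transfer along `cancelBaseChange`
  let e : ∀ n, J ⊗[A ⧸ J] ((A ⧸ J) ⊗[A] M n) ≃ₗ[A ⧸ J] J ⊗[A] M n := fun n =>
    TensorProduct.AlgebraTensorModule.cancelBaseChange A (A ⧸ J) (A ⧸ J) J (M n)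
  have hnat : ∀ (n : ℕ) (x : J ⊗[A ⧸ J] ((A ⧸ J) ⊗[A] M (n + 1))),
      e n ((dT n).lTensor J x) = (d n).lTensor J (e (n + 1) x) := by
    intro n x
    induction x using TensorProduct.induction_on with
    | zero => simp
    | add x y hx hy => simp only [map_add, hx, hy]
    | tmul j y =>
      induction y using TensorProduct.induction_on with
      | zero => simp
      | add x y hx hy => simp only [TensorProduct.tmul_add, map_add, hx, hy]
      | tmul a m =>
        simp only [e, dT, LinearMap.lTensor_tmul]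
        rw [LinearMap.baseChange_tmul,
          TensorProduct.AlgebraTensorModule.cancelBaseChange_tmul,
          TensorProduct.AlgebraTensorModule.cancelBaseChange_tmul, LinearMap.lTensor_tmul]
  intro x
  have hx : x = e (n + 1) ((e (n + 1)).symm x) := ((e (n + 1)).apply_symm_apply x).symm
  constructor
  · intro h0
    have h1 : (dT n).lTensor J ((e (n + 1)).symm x) = 0 := by
      apply (e n).injective
      rw [hnat, ← hx, h0, map_zero]
    obtain ⟨y, hy⟩ := (key _).mp h1
    refine ⟨e (n + 2) y, ?_⟩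
    rw [← hnat, hy, ← hx]
  · rintro ⟨y, rfl⟩
    have hy : y = e (n + 2) ((e (n + 2)).symm y) := ((e (n + 2)).apply_symm_apply y).symm
    rw [hy, ← hnat, ← hnat]
    have h0 := (key ((dT (n + 1)).lTensor J ((e (n + 2)).symm y))).mpr ⟨_, rfl⟩
    rw [h0, map_zero]

include hJ hdd hε hker hexbar in
/-- Step B: exactness lifts. -/
theorem exact_of_sqzero (n : ℕ) : Function.Exact (d (n + 1)) (d n) := by
  intro z
  constructor
  · intro hz
    obtain ⟨w, hw⟩ := exists_sub_mem J M d hexbar n z (by rw [hz]; exact Submodule.zero_mem _)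
    rw [← range_mu] at hw
    obtain ⟨η, hη⟩ := hw
    have h1 : mu J (M n) ((d n).lTensor J η) = 0 := by
      rw [← mu_naturality, hη, map_sub, hz, hdd, sub_zero]
    have h2 : (d n).lTensor J η = 0 := by
      apply mu_injective J (M n)
      rw [h1, map_zero]
    obtain ⟨η', hη'⟩ := (exact_lTensor_J J hJ M d ε hε hker hexbar n η).mp h2
    refine ⟨w + mu J _ η', ?_⟩
    rw [map_add, mu_naturality, hη', hη]
    abel
  · rintro ⟨y, rfl⟩
    exact hdd n y

include hJ hdd hε hker hexbar in
/-- Step C: flatness of the cokernel lifts. -/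
theorem flat_of_sqzero : Module.Flat A Q := by
  have hJnil : IsNilpotent J := ⟨2, by rw [pow_two, hJ]; rfl⟩
  apply Groth.Agent.H1.flat_of_isNilpotent_of_flat_quotient J hJnil
  have hinj : Function.Injective (mu J Q) := by
    rw [injective_iff_map_eq_zero]
    intro ξ hξ
    obtain ⟨η, rfl⟩ := LinearMap.lTensor_surjective J hε ξ
    have h1 : ε (mu J (M 0) η) = 0 := by rw [mu_naturality, hξ]
    obtain ⟨y, hy⟩ := (hker _).mp h1
    have hy' : d 0 y ∈ J • (⊤ : Submodule A (M 0)) := by
      rw [hy, ← range_mu]; exact ⟨η, rfl⟩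
    obtain ⟨w, hw⟩ := exists_sub_mem J M d hexbar 0 y hy'
    rw [← range_mu] at hw
    obtain ⟨η', hη'⟩ := hw
    have h2 : mu J (M 0) η = mu J (M 0) ((d 0).lTensor J η') := by
      rw [← mu_naturality, hη', map_sub, hdd, sub_zero, hy]
    have h3 : η = (d 0).lTensor J η' := mu_injective J (M 0) h2
    rw [h3, ← LinearMap.comp_apply, ← LinearMap.lTensor_comp]
    have h4 : ε ∘ₗ d 0 = 0 := by
      ext x
      exact (hker _).mpr ⟨x, rfl⟩
    rw [h4, LinearMap.lTensor_zero, LinearMap.zero_apply]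
  unfold mu at hinj
  rw [LinearMap.coe_comp, LinearEquiv.coe_coe] at hinj
  exact Function.Injective.of_comp hinj

end sqzero

section pushoutConv

variable (R R' P P' : Type u) [CommRing R] [CommRing R'] [CommRing P] [CommRing P']
  [Algebra R P] [Algebra R R'] [Algebra P P'] [Algebra R' P'] [Algebra R P']
  [IsScalarTower R P P'] [IsScalarTower R R' P'] [Algebra.IsPushout R R' P P']
  {M₁ M₂ M₃ : Type u} [AddCommGroup M₁] [AddCommGroup M₂] [AddCommGroup M₃]
  [Module P M₁] [Module P M₂] [Module P M₃] [Module R M₁] [Module R M₂] [Module R M₃]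
  [IsScalarTower R P M₁] [IsScalarTower R P M₂] [IsScalarTower R P M₃]

/-- converse of `exact_lTensor_of_isPushout`. -/
theorem exact_restrictScalars_lTensor_of_isPushout (f : M₁ →ₗ[P] M₂) (g : M₂ →ₗ[P] M₃)
    (h : Function.Exact (f.lTensor P') (g.lTensor P')) :
    Function.Exact ((f.restrictScalars R).lTensor R') ((g.restrictScalars R).lTensor R') := by
  set e₁ := Algebra.IsPushout.cancelBaseChange R R' P P' M₁
  set e₂ := Algebra.IsPushout.cancelBaseChange R R' P P' M₂
  set e₃ := Algebra.IsPushout.cancelBaseChange R R' P P' M₃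
  intro x
  have hx : x = e₂ (e₂.symm x) := (e₂.apply_symm_apply x).symm
  constructor
  · intro hgx
    have h1 : g.lTensor P' (e₂.symm x) = 0 := by
      rw [← cancelBaseChange_symm_lTensor, hgx, map_zero]
    obtain ⟨y, hy⟩ := (h (e₂.symm x)).mp h1
    refine ⟨e₁ y, ?_⟩
    apply e₂.symm.injective
    rw [cancelBaseChange_symm_lTensor, LinearEquiv.symm_apply_apply, hy]
  · rintro ⟨y, rfl⟩
    apply e₃.symm.injective
    rw [cancelBaseChange_symm_lTensor, cancelBaseChange_symm_lTensor, map_zero]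
    exact (h _).mpr ⟨_, rfl⟩

end pushoutConv

end Groth.Agent.H8.KosBCh
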