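import Mathlib
import Groth.Prelude
import Groth.Agent.Lib.Helper8.KosBCh.Main
import Groth.Agent.Lib.Helper8.KosBCh.SqZero
import Groth.Agent.Lib.Helper8.Rig.FlatTransfer

/-!
# Koszul-regularity and flatness lift along square-zero thickenings
-/

set_option autoImplicit false
universe u
open CategoryTheory Category Limits TensorProduct CochainComplex

namespace Groth.Agent.H8.KosBCh

section ESexactConv

variable {A B : Type u} [CommRing A] [CommRing B] [Algebra A B]

/-- converse of `exact_ES_map`. -/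
theorem exact_lTensor_of_exact_ES_map {M₁ M₂ M₃ : ModuleCat.{u} A} (f : M₁ ⟶ M₂) (g : M₂ ⟶ M₃)
    (h : Function.Exact ((ES A B).map f).hom ((ES A B).map g).hom) :
    Function.Exact (f.hom.lTensor B) (g.hom.lTensor B) := by
  intro x
  set e₁ := Groth.Agent.H8.ExtBridge.extEquiv (B := B) M₁
  set e₂ := Groth.Agent.H8.ExtBridge.extEquiv (B := B) M₂
  set e₃ := Groth.Agent.H8.ExtBridge.extEquiv (B := B) M₃
  have hx : x = e₂ (e₂.symm x) := (e₂.apply_symm_apply x).symm
  have hg : ∀ y, g.hom.lTensor B (e₂ y) = e₃ (((ES A B).map g).hom y) := fun y =>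
    (Groth.Agent.H8.ExtBridge.extEquiv_map (B := B) g y).symm
  have hf : ∀ y, f.hom.lTensor B (e₁ y) = e₂ (((ES A B).map f).hom y) := fun y =>
    (Groth.Agent.H8.ExtBridge.extEquiv_map (B := B) f y).symm
  constructor
  · intro hgx
    have h1 : ((ES A B).map g).hom (e₂.symm x) = 0 := by
      apply e₃.injective
      rw [← hg, ← hx, hgx, map_zero]
    obtain ⟨y, hy⟩ := (h _).mp h1
    refine ⟨e₁ y, ?_⟩
    rw [hf, hy, ← hx]
  · rintro ⟨y, rfl⟩
    have hy : y = e₁ (e₁.symm y) := (e₁.apply_symm_apply y).symm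
    rw [hy, hf, hg]
    have h0 := (h (((ES A B).map f).hom (e₁.symm y))).mpr ⟨_, rfl⟩
    rw [h0, map_zero]

end ESexactConv

section quotIso

variable (A B : Type u) [CommRing A] [CommRing B] [Algebra A B] (J : Ideal A) (I : Ideal B)

/-- `(A/J) ⊗_A (B/I) ≃ (B/JB)/(I(B/JB))`, linearly over `A/J`. -/
noncomputable def quotTensorQuotEquiv :
    (A ⧸ J) ⊗[A] (B ⧸ I) ≃ₗ[A ⧸ J]
      ((B ⧸ J.map (algebraMap A B)) ⧸ I.map (Ideal.Quotient.mk (J.map (algebraMap A B)))) := by
  have := Groth.Agent.H8.Rig.isPushout_quotient A B J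
  let e1 := (Algebra.IsPushout.cancelBaseChange A (A ⧸ J) B (B ⧸ J.map (algebraMap A B))
    (B ⧸ I)).symm
  let e2 := TensorProduct.tensorQuotEquivQuotSMul (B ⧸ J.map (algebraMap A B)) I
  have h3 : I • (⊤ : Submodule B (B ⧸ J.map (algebraMap A B))) =
      (I.map (Ideal.Quotient.mk (J.map (algebraMap A B)))).restrictScalars B :=
    Ideal.smul_top_eq_map I
  let e3 := Submodule.quotEquivOfEq _ _ h3
  let e4 := Submodule.Quotient.restrictScalarsEquiv B
    (I.map (Ideal.Quotient.mk (J.map (algebraMap A B))))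
  let e234 := (e2.trans e3).trans e4
  let e234' := LinearEquiv.extendScalarsOfSurjective
    (S := B ⧸ J.map (algebraMap A B)) Ideal.Quotient.mk_surjective e234
  exact e1.trans (e234'.restrictScalars (A ⧸ J))

end quotIso

section main

variable (A B : Type u) [CommRing A] [CommRing B] [Algebra A B]

/-- the `A`-module structure on a `B`-module -/
noncomputable local instance modA (M : ModuleCat.{u} B) : Module A M :=
  Module.compHom M (algebraMap A B)

local instance towerA (M : ModuleCat.{u} B) : IsScalarTower A B M := by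
  refine ⟨fun r p m => ?_⟩
  change (r • p) • m = algebraMap A B r • (p • m)
  rw [Algebra.smul_def, mul_smul]

/-- **SGA 3, square-zero lifting**: Koszul-regularity plus flatness of the quotient lift along a
square-zero thickening of the base. -/
theorem isKoszulRegularSeq_and_flat_of_sqzero [Module.Flat A B] (J : Ideal A) (hJ : J * J = ⊥)
    (rs : List B)
    (hreg : LCI.IsKoszulRegularSeq (B ⧸ Ideal.map (algebraMap A B) J)
      (rs.map (Ideal.Quotient.mk (Ideal.map (algebraMap A B) J))))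
    (hflat : Module.Flat (A ⧸ J) ((B ⧸ Ideal.map (algebraMap A B) J) ⧸
      Ideal.ofList (rs.map (Ideal.Quotient.mk (Ideal.map (algebraMap A B) J))))) :
    LCI.IsKoszulRegularSeq B rs ∧ Module.Flat A (B ⧸ Ideal.ofList rs) := by
  have hpo := Groth.Agent.H8.Rig.isPushout_quotient A B J
  set B' := B ⧸ Ideal.map (algebraMap A B) J with hB'
  set K := Koszul.koszul B rs with hK
  -- the data for the linear algebra lemma
  let M : ℕ → Type u := fun n => K.X (-(n : ℤ))
  let d : ∀ n, M (n + 1) →ₗ[A] M n := fun n =>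
    (K.d (-((n + 1 : ℕ) : ℤ)) (-(n : ℤ))).hom.restrictScalars A
  have hdd : ∀ n x, d n (d (n + 1) x) = 0 := by
    intro n x
    change (K.d (-((n + 1 : ℕ) : ℤ)) (-(n : ℤ))).hom
      ((K.d (-((n + 1 + 1 : ℕ) : ℤ)) (-((n + 1 : ℕ) : ℤ))).hom x) = 0
    rw [← ModuleCat.comp_apply, K.d_comp_d]
    rfl
  have : ∀ n, Module.Flat A (M n) := fun n => by
    have : Module.Projective B (K.X (-(n : ℤ))) := projective_koszul_X rs _
    exact Module.Flat.trans A B (K.X (-(n : ℤ)))
  -- exactness modulo `J`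
  have hexbar : ∀ n, Function.Exact ((d (n + 1)).lTensor (A ⧸ J)) ((d n).lTensor (A ⧸ J)) := by
    intro n
    apply exact_restrictScalars_lTensor_of_isPushout A (A ⧸ J) B B'
    apply exact_lTensor_of_exact_ES_map
    have h1 : ((ESC B B').obj K).ExactAt (-((n + 1 : ℕ) : ℤ)) := by
      rw [HomologicalComplex.exactAt_iff_isZero_homology]
      refine IsZero.of_iso ?_
        ((HomologicalComplex.homologyFunctor _ _ _).mapIso (kosBCIso (B := B') rs))
      exact hreg _ (by omega)
    exact Groth.Agent.H4.FlatAcyc.exact_d_of_exactAt ((ESC B B').obj K) (-((n + 1 + 1 : ℕ) : ℤ))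
      (-((n + 1 : ℕ) : ℤ)) (-(n : ℤ)) (by push_cast; ring) (by push_cast; ring) h1
  -- the augmentation
  obtain ⟨ε₀, hε₀s, hε₀k⟩ : ∃ ε : (K.X 0) →ₗ[B] (B ⧸ (Ideal.ofList rs • (⊤ : Submodule B B))),
      Function.Surjective ε ∧ LinearMap.ker ε = LinearMap.range (K.d (-1) 0).hom := by
    have h := Groth.Agent.H2.Kos.exists_aug B rs
    rw [hK, koszul_eq_koszulCx]
    exact h
  have heq : Ideal.ofList rs • (⊤ : Submodule B B) = Ideal.ofList rs := by
    rw [smul_eq_mul, Ideal.mul_top]
  let ε : M 0 →ₗ[A] (B ⧸ Ideal.ofList rs) :=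
    ((Submodule.quotEquivOfEq _ _ heq).toLinearMap ∘ₗ ε₀).restrictScalars A
  have hεs : Function.Surjective ε := (Submodule.quotEquivOfEq _ _ heq).surjective.comp hε₀s
  have hker : Function.Exact (d 0) ε := by
    intro x
    change (Submodule.quotEquivOfEq _ _ heq) (ε₀ x) = 0 ↔ x ∈ Set.range (K.d (-1) 0).hom
    rw [LinearEquiv.map_eq_zero_iff, ← LinearMap.mem_ker, hε₀k]
    rfl
  have hfl' : Module.Flat (A ⧸ J) ((A ⧸ J) ⊗[A] (B ⧸ Ideal.ofList rs)) := by
    have e := quotTensorQuotEquiv A B J (Ideal.ofList rs)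
    rw [Ideal.map_ofList] at e
    exact Module.Flat.of_linearEquiv e
  constructor
  · intro i hi
    rw [← HomologicalComplex.exactAt_iff_isZero_homology]
    rcases lt_or_gt_of_ne hi with hneg | hpos
    · obtain ⟨n, rfl⟩ : ∃ n : ℕ, i = -((n + 1 : ℕ) : ℤ) := ⟨(-i - 1).toNat, by omega⟩
      have h1 := exact_of_sqzero J hJ M d hdd ε hεs hker hexbar n
      exact Groth.Agent.H4.FlatAcyc.exactAt_of_exact_d K (-((n + 1 + 1 : ℕ) : ℤ))
        (-((n + 1 : ℕ) : ℤ)) (-(n : ℤ)) (by push_cast; ring) (by push_cast; ring) h1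
    · apply HomologicalComplex.ExactAt.of_isZero
      exact (Groth.Agent.H4.KosLow.lowData_koszul rs).1 i hpos
  · exact flat_of_sqzero J hJ M d hdd ε hεs hker hexbar

end main

end Groth.Agent.H8.KosBCh
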